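import Groth.Agent.EtCoh.K720.Equi

/-!
# The equivariant map is closed (node `n1b` of S18107)

`σ_V = d (ρ g)` is a global section of `Ω²`, and `d ≫ sg ρ ≫ clG = (b ↦ b σ) ≫ ι ≫ clG`.
-/

set_option autoImplicit false

universe u

open CategoryTheory CategoryTheory.Limits AlgebraicGeometry Opposite

noncomputable section

namespace K789.N1b

open K611.Gam K611.Gam2 K611.Frame K611.Top K611.Sh K611.Seq K611.Seq2 K720.Sym K720.Tw K720.Pair K720.Nu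
  K720.Lev1 K720.Equi KaehlerDifferential

/-! ### Ring level -/

theorem cl2_w_d {B : Type u} [CommRing B] (x : Ω[B⁄ℤ]) (b : B) : cl2 (w x (D ℤ B b)) = cl2 (b • d1 x) := by
  have e : w x (D ℤ B b) = b • d1 x - d1 (b • x) := by
    rw [d1_smul, w_swap (D ℤ B b) x]
    abel
  rw [e, cl2_sub, cl2_d1, sub_zero]

variable {p : ℕ} {X : Scheme.{u}} (h : (p : Γ(X, ⊤)) = 0)

/-- `ap` of the map of sheaves attached to a natural map. -/
theorem ap_un {A A' : CommRingCat.{u} ⥤ AddCommGrpCat.{u}} (φ : NT p A A') (U : X.Etale)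
    (a : A.obj Γ(U.left, ⊤)) : ap (φ.sh h) U (un A U a) = un A' U (φ.app _ (h0 h U) a) := NT.sh_un φ h U a

variable [hp : Fact p.Prime]

omit hp in
theorem cl_dN : (dN p).sh (X := X) h ≫ (clN p).sh h = 0 := by
  rw [← NT.sh_comp]
  exact NT.sh_eq_zero _ _ fun B hB z => cl_d p hB z

omit hp in
theorem dlN_d1 : (dlN p).sh (X := X) h ≫ (d1N p).sh h = 0 := by
  rw [← NT.sh_comp]
  refine NT.sh_eq_zero _ _ fun B hB z => ?_
  obtain ⟨v, rfl⟩ := cu_surjective z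
  exact d1_dl v

omit hp in
theorem cl2_wedge_d (V : X.Etale) (x : EtCoh.sect (sh OmF X) V) (s : EtCoh.sect (sh GaF X) V) :
    ap ((cl2N p).sh h) V ((wΩ h).app V x (ap ((dN p).sh h) V s)) =
      ap ((cl2N p).sh h) V ((mΩ h).app V (ap ((d1N p).sh h) V x) s) := by
  refine sect_induction₂ x s _ _ fun W g x₀ s₀ hx hs => ?_
  rw [← ap_rs, ← ap_rs, ← (wΩ h).nat, ← (mΩ h).nat, ← ap_rs, ← ap_rs, ← hx, ← hs, ap_un, ap_un,
    Bi.sh_un, Bi.sh_un, ap_un, ap_un]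
  exact congrArg (un Q2F W) (cl2_w_d (B := Γ(W.left, ⊤)) x₀ s₀)

/-! ### The global section `dρ` -/

variable {T : Tor (sh (nuF p) X)}

omit hp in
theorem exists_sigma (ρ : Eqv T ((dlN p).sh h)) :
    ∃ σ : Gs (sh Om2F X), ∀ (V : X.Etale) (g : T.pt V), σ.v V = ap ((d1N p).sh h) V (ρ.r V g) := by
  obtain ⟨σ, hσ⟩ := exists_gs (sh Om2F X) (fun V s => ∃ g : T.pt V, s = ap ((d1N p).sh h) V (ρ.r V g))
    (fun {V W} k s ⟨g, hg⟩ => ⟨T.rp k g, by rw [hg, ρ.nat, ap_rs]⟩)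
    (fun V s s' ⟨g, hg⟩ ⟨g', hg'⟩ => by
      rw [hg, hg', ← T.tr_df g g', ρ.tr, map_add, ← ap_comp, dlN_d1]
      exact (add_zero _).symm)
    (fun V x => by
      obtain ⟨W, k, w, hw, ⟨g⟩⟩ := exists_pt (T := T) x
      exact ⟨W, k, w, hw, _, g, rfl⟩)
  exact ⟨σ, fun V g => hσ V _ ⟨g, rfl⟩⟩

omit hp in
/-- The identity `d ≫ sg ρ ≫ clG = (b ↦ b dρ) ≫ ι ≫ clG`. -/
theorem d_sg_clG (ρ : Eqv T ((dlN p).sh h)) (σ : Gs (sh Om2F X))
    (hσ : ∀ (V : X.Etale) (g : T.pt V), σ.v V = ap ((d1N p).sh h) V (ρ.r V g)) :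
    (dN p).sh h ≫ sg h ρ ≫ clG h T = left (mΩ h) σ ≫ K720.Tw.ι T (bΩ h) ≫ clG h T := by
  refine K720.Tw.hom_ext fun U s => ?_
  refine tw_ext ?_ fun V f g => ?_
  · rw [ap_comp, ap_comp, ap_comp, ap_comp, π_clG, π_clG, ap_π_ι, map_zero, π_sig, ← ap_comp, cl_dN]
    rfl
  · rw [← ap_rs, ← ap_rs, ap_comp, ap_comp, ap_comp, ap_comp, ev_clG, ev_clG, ev_sig, ev_ι, ap_left, hσ V g]
    exact cl2_wedge_d h V _ _

/-- NODE N1b: the equivariant map is closed. -/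
theorem n1b (d1 : ∀ (t : EtCoh.H X (sh Om2F X) 2 →+ ZMod p), t ≠ 0 → ∀ (σ : Gs (sh Om2F X)),
      (∀ g : EtCoh.H X (sh GaF X) 2, t (Sheaf.H.map (left (mΩ h) σ) 2 g) = 0) → σ = 0)
    (T : Tor (sh (nuF p) X)) (lam : EtCoh.H X (GQ h T) 2 →+ ZMod p)
    (hne : ∃ m : EtCoh.H X (sh Om2F X) 2, lam (Sheaf.H.map (clG h T) 2 (Sheaf.H.map (K720.Tw.ι T (bΩ h)) 2 m)) ≠ 0)
    (ρ : Eqv T ((dlN p).sh h))
    (hρ : ∀ x : EtCoh.H X (sh OmF X) 2, lam (Sheaf.H.map (clG h T) 2 (Sheaf.H.map (sg h ρ) 2 x)) = 0)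
    (V : X.Etale) (g : T.pt V) : ap ((d1N p).sh h) V (ρ.r V g) = 0 := by
  obtain ⟨σ, hσ⟩ := exists_sigma h ρ
  have h1 := d1 ((lam.comp (Sheaf.H.map (clG h T) 2)).comp (Sheaf.H.map (K720.Tw.ι T (bΩ h)) 2))
    (by
      obtain ⟨m, hm⟩ := hne
      intro h0
      exact hm (DFunLike.congr_fun h0 m)) σ (by
      intro b
      change lam (Sheaf.H.map (clG h T) 2 (Sheaf.H.map (K720.Tw.ι T (bΩ h)) 2 (Sheaf.H.map (left (mΩ h) σ) 2 b))) = 0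
      rw [← Sheaf.H.map_comp_apply, ← Sheaf.H.map_comp_apply, ← d_sg_clG h ρ σ hσ,
        Sheaf.H.map_comp_apply, Sheaf.H.map_comp_apply]
      exact hρ _)
  rw [← hσ V g, h1]
  rfl

end K789.N1b
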