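import Groth.Agent.EtCoh.K720.Equi

/-!
# The equivariant map `c` with `gam c = cl ρ` (node `n1c` of S18107)
-/

set_option autoImplicit false

universe u

open CategoryTheory CategoryTheory.Limits AlgebraicGeometry Opposite

noncomputable section

namespace K789.N1c

open K611.Gam K611.Gam2 K611.Frame K611.Top K611.Sh K611.Seq K611.Seq2 K720.Sym K720.Tw K720.Pair K720.Nu
  K720.Lev1 K720.Equi KaehlerDifferential

variable {p : ℕ} [hp : Fact p.Prime] {X : Scheme.{u}} (h : (p : Γ(X, ⊤)) = 0)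

theorem gam_dbN : (gamN p).sh (X := X) h ≫ (dbN p).sh h = 0 := by
  rw [← NT.sh_comp]
  exact NT.sh_eq_zero _ _ fun B hB a => gam_db p hB a

omit hp in
theorem cl_dbN (V : X.Etale) (x : EtCoh.sect (sh OmF X) V) :
    ap ((dbN p).sh h) V (ap ((clN p).sh h) V x) = ap ((d1N p).sh h) V x := by
  rw [← ap_comp, ← NT.sh_comp]
  rfl

theorem cl_dlN (V : X.Etale) (a : EtCoh.sect (sh (nuF p) X) V) :
    ap ((clN p).sh h) V (ap ((dlN p).sh h) V a) = ap ((gamN p).sh h) V (ap ((dlN p).sh h) V a) := by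
  have h1 : ap ((cgN p).sh h) V (ap ((dlN p).sh h) V a) = 0 := by
    rw [← ap_comp, dlN_cgN]
    rfl
  rw [ap_cgN, sub_eq_zero] at h1
  exact h1

/-- `Ω¹ → Q → Ω²`. -/
def seqD : ShortComplex (EtCoh.Ab X) := ShortComplex.mk ((gamN p).sh h) ((dbN p).sh h) (gam_dbN h)

theorem exists_gam (hX : HasCharts X (GoodN p 2)) (V : X.Etale) (y : EtCoh.sect (sh QF X) V)
    (hy : ap ((dbN p).sh h) V y = 0) : ∃ c : EtCoh.sect (sh OmF X) V, ap ((gamN p).sh h) V c = y := by
  have hm : Mono (seqD (X := X) h).f := mono_sh hX h _ (inj_gam p 2)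
  exact exists_of_exact (seqD h) (exact_sh hX h _ _ _ (exact_gam_db p)) V y hy

theorem gam_inj (hX : HasCharts X (GoodN p 2)) (V : X.Etale) :
    Function.Injective (ap ((gamN p).sh (X := X) h) V) := by
  have hm : Mono ((gamN p).sh (X := X) h) := mono_sh hX h _ (inj_gam p 2)
  exact ap_injective _ V

/-- NODE N1c: the equivariant map `c` with `gam c = cl ρ`. -/
theorem n1c (hX : HasCharts X (GoodN p 2)) (T : Tor (sh (nuF p) X)) (ρ : Eqv T ((dlN p).sh h))
    (hd : ∀ (V : X.Etale) (g : T.pt V), ap ((d1N p).sh h) V (ρ.r V g) = 0) :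
    ∃ c : Eqv T ((dlN p).sh h), ∀ (V : X.Etale) (g : T.pt V),
      ap ((gamN p).sh h) V (c.r V g) = ap ((clN p).sh h) V (ρ.r V g) := by
  have h1 : ∀ (V : X.Etale) (g : T.pt V), ∃ c : EtCoh.sect (sh OmF X) V,
      ap ((gamN p).sh h) V c = ap ((clN p).sh h) V (ρ.r V g) := fun V g =>
    exists_gam h hX V _ (by rw [cl_dbN, hd])
  choose c hc using h1
  refine ⟨⟨c, fun {V W} k g => ?_, fun V g x => ?_⟩, hc⟩
  · apply gam_inj h hX W
    rw [hc, ρ.nat, ap_rs, ap_rs, hc]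
  · apply gam_inj h hX V
    rw [hc, ρ.tr, map_add, map_add, hc, cl_dlN]

end K789.N1c
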